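import Cfsg.Agent.Lib.CompLength.Coords

/-!
# An invariant of the cosets of a subgroup of a product of simple groups
-/

set_option autoImplicit false

namespace Cfsg.Lib.CompLength

open Subgroup
open scoped commutatorElement

variable {N : Type*} [Group N]

/-- A colouring by four colours balanced on every fibre of `key`. -/
theorem exists_balanced {ι κ : Type*} [Fintype ι] [DecidableEq κ] (key : ι → κ) :
    ∃ col : ι → Fin 4, ∀ (c : κ) (j : Fin 4),
      4 * (Finset.univ.filter fun i => key i = c ∧ col i = j).card ≤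
        (Finset.univ.filter fun i => key i = c).card + 3 := by
  classical
  let e := Fintype.equivFin ι
  let rk : ι → ℕ := fun i => (Finset.univ.filter fun i' => key i' = key i ∧ e i' < e i).card
  refine ⟨fun i => ⟨rk i % 4, Nat.mod_lt _ (by norm_num)⟩, fun c j => ?_⟩
  set S := Finset.univ.filter fun i => key i = c with hS
  have hrk : ∀ i ∈ S, ∀ i' ∈ S, e i < e i' → rk i < rk i' := by
    intro i hi i' hi' hlt
    simp only [hS, Finset.mem_filter, Finset.mem_univ, true_and] at hi hi'
    refine Finset.card_lt_card ⟨fun x hx => ?_, fun hsub => ?_⟩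
    · simp only [Finset.mem_filter, Finset.mem_univ, true_and] at hx ⊢
      exact ⟨hx.1.trans (hi.trans hi'.symm), hx.2.trans hlt⟩
    · have := hsub (Finset.mem_filter.2 ⟨Finset.mem_univ i, hi.trans hi'.symm, hlt⟩)
      simp at this
  have hlt : ∀ i ∈ S, rk i < S.card := by
    intro i hi
    simp only [hS, Finset.mem_filter, Finset.mem_univ, true_and] at hi
    refine Finset.card_lt_card ⟨fun x hx => ?_, fun hsub => ?_⟩
    · simp only [hS, Finset.mem_filter, Finset.mem_univ, true_and] at hx ⊢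
      exact hx.1.trans hi
    · have := hsub (Finset.mem_filter.2 ⟨Finset.mem_univ i, hi⟩)
      simp at this
  have hinj : ∀ i ∈ S, ∀ i' ∈ S, rk i = rk i' → i = i' := by
    intro i hi i' hi' h
    rcases lt_trichotomy (e i) (e i') with h' | h' | h'
    · exact absurd h (hrk i hi i' hi' h').ne
    · exact e.injective h'
    · exact absurd h (hrk i' hi' i hi h').ne'
  have hmem : ∀ i ∈ (Finset.univ.filter fun i => key i = c ∧ (⟨rk i % 4, Nat.mod_lt _ (by norm_num)⟩ : Fin 4) = j),
      i ∈ S ∧ rk i % 4 = j := by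
    intro i hi
    simp only [hS, Finset.mem_filter, Finset.mem_univ, true_and] at hi ⊢
    exact ⟨hi.1, congrArg Fin.val hi.2⟩
  have h1 := Finset.card_le_card_of_injOn (fun i => rk i / 4) (t := Finset.range ((S.card + 3) / 4))
    (s := Finset.univ.filter fun i => key i = c ∧ (⟨rk i % 4, Nat.mod_lt _ (by norm_num)⟩ : Fin 4) = j)
    (fun i hi => Finset.mem_range.2 (by
      have := hlt i (hmem i hi).1
      show rk i / 4 < _
      omega))
    (fun i hi i' hi' h => hinj i (hmem i hi).1 i' (hmem i' hi').1 (by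
      have := (hmem i hi).2
      have := (hmem i' hi').2
      simp only at h
      omega))
  rw [Finset.card_range] at h1
  simp only [hS] at h1 ⊢
  omega

section

variable [Finite N]

/-- The maximal normal subgroups. -/
noncomputable def coordSet (N : Type*) [Group N] [Finite N] : Finset (Subgroup N) :=
  (Set.toFinite {M : Subgroup N | MaxNormal M}).toFinset

theorem mem_coordSet {M : Subgroup N} : M ∈ coordSet N ↔ MaxNormal M := by
  simp [coordSet]

/-- `x` agrees with an element of `U` at the coordinates in `S`. -/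
def Agree (U : Subgroup N) (x : N) (S : Finset (Subgroup N)) : Prop :=
  ∃ u ∈ U, ∀ M ∈ S, u⁻¹ * x ∈ M

open Classical in
/-- The largest number of coordinates at which `x` agrees with an element of `U`. -/
noncomputable def agreeNum (U : Subgroup N) (x : N) : ℕ :=
  (((coordSet N).powerset).filter (Agree U x)).sup Finset.card

theorem le_agreeNum {U : Subgroup N} {x : N} {S : Finset (Subgroup N)} (hS : S ⊆ coordSet N)
    (h : Agree U x S) : S.card ≤ agreeNum U x := by
  classical
  exact Finset.le_sup (f := Finset.card) (Finset.mem_filter.2 ⟨Finset.mem_powerset.2 hS, h⟩)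

theorem exists_agreeNum (U : Subgroup N) (x : N) :
    ∃ S, S ⊆ coordSet N ∧ Agree U x S ∧ S.card = agreeNum U x := by
  classical
  obtain ⟨S, hS, he⟩ := Finset.exists_mem_eq_sup (((coordSet N).powerset).filter (Agree U x))
    ⟨∅, Finset.mem_filter.2 ⟨Finset.empty_mem_powerset _, 1, U.one_mem, by simp⟩⟩ Finset.card
  obtain ⟨h1, h2⟩ := Finset.mem_filter.1 hS
  exact ⟨S, Finset.mem_powerset.1 h1, h2, he.symm⟩

theorem agreeNum_mul {U : Subgroup N} (x : N) {v : N} (hv : v ∈ U) : agreeNum U (x * v) = agreeNum U x := by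
  have h : ∀ (y w : N), w ∈ U → agreeNum U y ≤ agreeNum U (y * w) := fun y w hw => by
    obtain ⟨S, hS, ⟨u, hu, hag⟩, he⟩ := exists_agreeNum U y
    rw [← he]
    refine le_agreeNum hS ⟨u * w, U.mul_mem hu hw, fun M hM => ?_⟩
    have := (mem_coordSet.1 (hS hM)).1.conj_mem _ (hag M hM) w⁻¹
    rw [show (u * w)⁻¹ * (y * w) = w⁻¹ * (u⁻¹ * y) * w⁻¹⁻¹ by group]
    exact this
  exact le_antisymm (by simpa using h (x * v) v⁻¹ (U.inv_mem hv)) (h x v hv)

theorem agreeNum_le_map {U : Subgroup N} (α : MulAut N) (hα : ∀ u ∈ U, α u ∈ U) (x : N) :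
    agreeNum U x ≤ agreeNum U (α x) := by
  classical
  obtain ⟨S, hS, ⟨u, hu, hag⟩, he⟩ := exists_agreeNum U x
  have hinj : Function.Injective (fun M : Subgroup N => M.comap α.symm.toMonoidHom) := fun A B h => by
    ext z
    simpa using SetLike.ext_iff.1 h (α z)
  rw [← he, ← Finset.card_image_of_injective S hinj]
  refine le_agreeNum (fun M hM => ?_) ⟨α u, hα u hu, fun M hM => ?_⟩
  · obtain ⟨M', hM', rfl⟩ := Finset.mem_image.1 hM
    exact mem_coordSet.2 ((mem_coordSet.1 (hS hM')).comap α.symm)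
  · obtain ⟨M', hM', rfl⟩ := Finset.mem_image.1 hM
    simpa using hag M' hM'

theorem agreeNum_map {U : Subgroup N} (α : MulAut N) (hα : ∀ u, α u ∈ U ↔ u ∈ U) (x : N) :
    agreeNum U (α x) = agreeNum U x := by
  refine le_antisymm ?_ (agreeNum_le_map α (fun u hu => (hα u).2 hu) x)
  have h := agreeNum_le_map (U := U) α.symm (fun u hu => (hα _).1 (by simpa using hu)) (α x)
  simpa using h

/-- Changing one coordinate changes the number by at most one. -/
theorem agreeNum_le_succ {U : Subgroup N} {x y : N} (M₀ : Subgroup N)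
    (h : ∀ M ∈ coordSet N, M ≠ M₀ → x⁻¹ * y ∈ M) : agreeNum U x ≤ agreeNum U y + 1 := by
  classical
  obtain ⟨S, hS, ⟨u, hu, hag⟩, he⟩ := exists_agreeNum U x
  have h1 := le_agreeNum (x := y) ((Finset.erase_subset M₀ S).trans hS) ⟨u, hu, fun M hM => by
    obtain ⟨hne, hM⟩ := Finset.mem_erase.1 hM
    rw [show u⁻¹ * y = (u⁻¹ * x) * (x⁻¹ * y) by group]
    exact M.mul_mem (hag M hM) (h M (hS hM) hne)⟩
  have := Finset.pred_card_le_card_erase (a := M₀) (s := S)
  omega

/-- Many values are attained outside `U`, up to the length of a series of `U`. -/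
theorem exists_values (hperf : commutator N = ⊤) (U : Subgroup N) :
    ∃ (e : ℕ) (V : Finset ℕ), Ser U e ∧ (∀ v ∈ V, ∃ x, x ∉ U ∧ agreeNum U x = v) ∧
      3 * (coordSet N).card ≤ 4 * V.card + 3 * e := by
  classical
  set K := coordSet N with hK
  let key : Subgroup N → Subgroup N := fun M => U ⊓ M
  let K₁ := K.filter fun M => U ⊔ M = ⊤
  have hrep : ∀ c ∈ K₁.image key, ∃ M, M ∈ K₁ ∧ key M = c := fun c hc => by
    obtain ⟨M, hM, he⟩ := Finset.mem_image.1 hc
    exact ⟨M, hM, he⟩
  choose! rep hrep1 hrep2 using hrep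
  -- four elements of `U` which differ modulo a coordinate
  have hfour : ∀ M, M ∈ K₁ → ∃ q : Fin 4 → N, (∀ j, q j ∈ U) ∧ ∀ i j, (q i)⁻¹ * q j ∈ M → i = j := by
    intro M hM
    obtain ⟨hMK, hUM⟩ := Finset.mem_filter.1 hM
    obtain ⟨hMn, hMt, -⟩ := mem_coordSet.1 hMK
    haveI := hMn
    have hcard : 4 ≤ Nat.card (N ⧸ M) := by
      by_contra hlt
      push Not at hlt
      have hne : Nat.card (N ⧸ M) ≠ 1 := fun h => hMt (Subgroup.index_eq_one.1 h)
      have hpos : 0 < Nat.card (N ⧸ M) := Nat.card_pos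
      obtain ⟨p, hp, hpc⟩ : ∃ p, p.Prime ∧ Nat.card (N ⧸ M) = p := by
        refine ⟨Nat.card (N ⧸ M), ?_, rfl⟩
        interval_cases h : Nat.card (N ⧸ M) <;> first | exact absurd rfl hne | norm_num
      haveI := Fact.mk hp
      haveI := isCyclic_of_prime_card hpc
      have hc : commutator N ≤ M := by
        rw [_root_.commutator_def, Subgroup.commutator_le]
        intro a _ b _
        rw [← QuotientGroup.eq_one_iff]
        show (QuotientGroup.mk' M) ⁅a, b⁆ = 1
        rw [map_commutatorElement, commutatorElement_eq_one_iff_commute]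
        letI := IsCyclic.commGroup (α := N ⧸ M)
        exact mul_comm _ _
      exact hMt (top_unique (hperf.ge.trans hc))
    haveI := Fintype.ofFinite (N ⧸ M)
    rw [Nat.card_eq_fintype_card] at hcard
    let emb : Fin 4 ↪ (N ⧸ M) := (Fin.castLEEmb hcard).trans (Fintype.equivFin _).symm.toEmbedding
    have hsurj : ∀ z : N ⧸ M, ∃ u ∈ U, (QuotientGroup.mk u : N ⧸ M) = z := fun z => by
      obtain ⟨w, rfl⟩ := QuotientGroup.mk_surjective z
      obtain ⟨u, hu, m, hm, rfl⟩ := Subgroup.mem_sup_of_normal_right.1 (hUM.symm ▸ Subgroup.mem_top w)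
      exact ⟨u, hu, QuotientGroup.eq.2 (by simpa using hm)⟩
    choose q hq1 hq2 using fun j => hsurj (emb j)
    exact ⟨q, hq1, fun i j h => emb.injective (by rw [← hq2, ← hq2]; exact QuotientGroup.eq.2 h)⟩
  choose! q hq1 hq2 using hfour
  -- elements outside `U` modulo the other coordinates
  have hout : ∀ M, M ∈ K → U ⊔ M ≠ ⊤ → ∃ z, z ∉ U ⊔ M := fun M _ h => by
    by_contra hc
    push Not at hc
    exact h (eq_top_iff.2 fun z _ => hc z)
  choose! z hz using hout
  obtain ⟨col, hcol⟩ := exists_balanced (fun M : {M // M ∈ K₁} => key M.1)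
  let cl : Subgroup N → Fin 4 := fun M => if h : M ∈ K₁ then col ⟨M, h⟩ else 0
  let g : Subgroup N → N := fun M => if M ∈ K₁ then q (rep (key M)) (cl M) else z M
  obtain ⟨x₀, hx₀⟩ := exists_forall_mem hperf g K (fun M hM => mem_coordSet.1 hM)
  -- the agreement number of `x₀`
  have hbound : 4 * agreeNum U x₀ ≤ K₁.card + 3 * (K₁.image key).card := by
    obtain ⟨S, hS, ⟨u, hu, hag⟩, he⟩ := exists_agreeNum U x₀
    have hug : ∀ M ∈ S, u⁻¹ * g M ∈ M := fun M hM => by
      rw [show u⁻¹ * g M = (u⁻¹ * x₀) * ((g M)⁻¹ * x₀)⁻¹ by group]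
      exact M.mul_mem (hag M hM) (M.inv_mem (hx₀ M (hS hM)))
    have hS1 : ∀ M ∈ S, M ∈ K₁ := fun M hM => by
      by_contra h1
      refine hz M (hS hM) (fun h => h1 (Finset.mem_filter.2 ⟨hS hM, h⟩)) ?_
      have h2 := hug M hM
      simp only [g, if_neg h1] at h2
      have := (U ⊔ M).mul_mem (Subgroup.mem_sup_left hu) (Subgroup.mem_sup_right h2)
      simpa using this
    have hsame : ∀ M ∈ S, ∀ M' ∈ S, key M = key M' → cl M = cl M' := by
      intro M hM M' hM' hk
      have hc := Finset.mem_image_of_mem key (hS1 M hM)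
      have h1 := hug M hM
      have h2 := hug M' hM'
      simp only [g, if_pos (hS1 M hM), if_pos (hS1 M' hM'), ← hk] at h1 h2
      set r := rep (key M) with hr
      have hr1 : r ∈ K₁ := hrep1 _ hc
      have hk1 : U ⊓ r = U ⊓ M := hrep2 _ hc
      have hk2 : U ⊓ r = U ⊓ M' := hk1.trans hk
      refine hq2 r hr1 _ _ ?_
      have e1 : u⁻¹ * q r (cl M) ∈ U ⊓ r := hk1.symm ▸
        ⟨U.mul_mem (U.inv_mem hu) (hq1 r hr1 _), h1⟩
      have e2 : u⁻¹ * q r (cl M') ∈ U ⊓ r := hk2.symm ▸
        ⟨U.mul_mem (U.inv_mem hu) (hq1 r hr1 _), h2⟩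
      have := r.mul_mem (r.inv_mem e1.2) e2.2
      simpa [mul_assoc] using this
    rw [← he, Finset.card_eq_sum_card_fiberwise (f := key) (t := K₁.image key)
        (fun M hM => Finset.mem_image_of_mem key (hS1 M hM)),
      Finset.card_eq_sum_card_image key K₁, Finset.mul_sum, mul_comm 3, ← smul_eq_mul _ 3,
      ← Finset.sum_const, ← Finset.sum_add_distrib]
    refine Finset.sum_le_sum fun c _ => ?_
    rcases (S.filter fun M => key M = c).eq_empty_or_nonempty with h0 | ⟨M₁, hM₁⟩
    · simp [h0]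
    obtain ⟨hM₁S, hM₁c⟩ := Finset.mem_filter.1 hM₁
    refine le_trans (Nat.mul_le_mul_left 4 ?_) (le_trans (hcol c (cl M₁)) (Nat.add_le_add_right ?_ 3))
    · refine Finset.card_le_card_of_injOn (fun M => if h : M ∈ K₁ then ⟨M, h⟩ else ⟨M₁, hS1 M₁ hM₁S⟩)
        (fun M hM => ?_) (fun M hM M' hM' h => ?_)
      · obtain ⟨hM, hMc⟩ := Finset.mem_filter.1 hM
        have := hsame M hM M₁ hM₁S (hMc.trans hM₁c.symm)
        simp only [cl, dif_pos (hS1 M hM), dif_pos (hS1 M₁ hM₁S)] at this
        simp [dif_pos (hS1 M hM), hMc, this, cl, dif_pos (hS1 M₁ hM₁S)]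
      · have h1 := hS1 M (Finset.mem_filter.1 hM).1
        have h2 := hS1 M' (Finset.mem_filter.1 hM').1
        simp only [dif_pos h1, dif_pos h2] at h
        exact congrArg Subtype.val h
    · refine Finset.card_le_card_of_injOn Subtype.val (fun M hM => ?_) Subtype.val_injective.injOn
      simp only [Finset.mem_filter, Finset.mem_univ, true_and, Finset.mem_coe] at hM ⊢
      exact ⟨M.2, hM⟩
  -- a long series of `U`
  obtain ⟨e, he, hser⟩ := exists_ser_of_kernels hperf U ((K₁.image key).image rep)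
    (fun M hM => by
      obtain ⟨c, hc, rfl⟩ := Finset.mem_image.1 hM
      obtain ⟨h1, h2⟩ := Finset.mem_filter.1 (hrep1 c hc)
      exact ⟨mem_coordSet.1 h1, h2⟩)
    (fun M hM M' hM' h => by
      obtain ⟨c, hc, rfl⟩ := Finset.mem_image.1 hM
      obtain ⟨c', hc', rfl⟩ := Finset.mem_image.1 hM'
      rw [show c = c' from (hrep2 c hc).symm.trans (h.trans (hrep2 c' hc'))])
  rw [Finset.card_image_of_injOn (fun c hc c' hc' h => by
    rw [← hrep2 c hc, ← hrep2 c' hc', h])] at he
  -- a path from the identity to `x₀`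
  let ord := K.equivFin
  let gp : ℕ → Subgroup N → N := fun j M => if h : M ∈ K then (if (ord ⟨M, h⟩ : ℕ) < j then x₀ else 1) else 1
  choose path hpath using fun j => exists_forall_mem hperf (gp j) K (fun M hM => mem_coordSet.1 hM)
  have hcong : ∀ a b : N, (∀ M ∈ K, a⁻¹ * b ∈ M) → agreeNum U a ≤ agreeNum U b := by
    intro a b h
    obtain ⟨S, hS, ⟨u, hu, hag⟩, he'⟩ := exists_agreeNum U a
    rw [← he']
    refine le_agreeNum hS ⟨u, hu, fun M hM => ?_⟩
    rw [show u⁻¹ * b = (u⁻¹ * a) * (a⁻¹ * b) by group]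
    exact M.mul_mem (hag M hM) (h M (hS hM))
  have hstart : K.card ≤ agreeNum U (path 0) := le_agreeNum le_rfl ⟨1, U.one_mem, fun M hM => by
    have := hpath 0 M hM
    simpa [gp, hM] using this⟩
  have hend : agreeNum U (path K.card) ≤ agreeNum U x₀ := hcong _ _ fun M hM => by
    have := hpath K.card M hM
    simp only [gp, dif_pos hM, if_pos (ord ⟨M, hM⟩).isLt] at this
    simpa using M.inv_mem this
  have hstep : ∀ j, agreeNum U (path j) ≤ agreeNum U (path (j + 1)) + 1 := by
    intro j
    by_cases hj : j < K.card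
    · refine agreeNum_le_succ (ord.symm ⟨j, hj⟩).1 fun M hM hne => ?_
      have h1 := hpath j M hM
      have h2 := hpath (j + 1) M hM
      have hne' : (ord ⟨M, hM⟩ : ℕ) ≠ j := fun h => hne (by
        have h' : ord ⟨M, hM⟩ = ⟨j, hj⟩ := Fin.ext h
        rw [← h', Equiv.symm_apply_apply])
      have hsame : gp j M = gp (j + 1) M := by
        simp only [gp, dif_pos hM]
        split_ifs <;> first | rfl | omega
      rw [← hsame] at h2
      simpa [mul_assoc] using M.mul_mem (M.inv_mem h1) h2
    · refine le_trans (hcong _ _ fun M hM => ?_) (Nat.le_succ _)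
      have h1 := hpath j M hM
      have h2 := hpath (j + 1) M hM
      have hsame : gp j M = gp (j + 1) M := by
        have := (ord ⟨M, hM⟩).isLt
        simp only [gp, dif_pos hM]
        split_ifs <;> first | rfl | omega
      rw [← hsame] at h2
      simpa [mul_assoc] using M.mul_mem (M.inv_mem h1) h2
  refine ⟨e, Finset.Ico (agreeNum U x₀) K.card, hser, fun v hv => ?_, ?_⟩
  · obtain ⟨hv1, hv2⟩ := Finset.mem_Ico.1 hv
    have hex : ∃ j, agreeNum U (path j) ≤ v := ⟨K.card, hend.trans hv1⟩
    obtain ⟨j, hj⟩ : ∃ j, Nat.find hex = j + 1 := by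
      refine Nat.exists_eq_succ_of_ne_zero fun h => ?_
      have := Nat.find_spec hex
      rw [h] at this
      omega
    have h1 := Nat.find_spec hex
    rw [hj] at h1
    have h2 := Nat.find_min hex (show j < Nat.find hex by omega)
    have h3 := hstep j
    refine ⟨path (j + 1), fun hU => ?_, by omega⟩
    have : K.card ≤ agreeNum U (path (j + 1)) :=
      le_agreeNum le_rfl ⟨path (j + 1), hU, fun M _ => by simp⟩
    omega
  · rw [Nat.card_Ico]
    have : K₁.card ≤ K.card := Finset.card_filter_le _ _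
    omega

end

end Cfsg.Lib.CompLength
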