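import Cfsg.Agent.Lib.CompLength.Series

/-!
# Maximal normal subgroups of a perfect group as coordinates
-/

set_option autoImplicit false

namespace Cfsg.Lib.CompLength

open Subgroup
open scoped commutatorElement

variable {N : Type*} [Group N]

/-- A maximal proper normal subgroup. -/
def MaxNormal (M : Subgroup N) : Prop :=
  M.Normal ∧ M ≠ ⊤ ∧ ∀ K : Subgroup N, K.Normal → M ≤ K → K = M ∨ K = ⊤

theorem exists_maxNormal [Finite N] [Nontrivial N] : ∃ M : Subgroup N, MaxNormal M := by
  obtain ⟨M, ⟨hMn, hMt⟩, hmax⟩ := Set.Finite.exists_maximal (s := {K : Subgroup N | K.Normal ∧ K ≠ ⊤})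
    (Set.toFinite _) ⟨⊥, inferInstance, bot_ne_top⟩
  refine ⟨M, hMn, hMt, fun K hK hle => or_iff_not_imp_right.2 fun hne => ?_⟩
  exact le_antisymm (hmax ⟨hK, hne⟩ hle) hle

theorem MaxNormal.comap {M : Subgroup N} (hM : MaxNormal M) (α : MulAut N) :
    MaxNormal (M.comap α.toMonoidHom) := by
  obtain ⟨hn, ht, hmax⟩ := hM
  haveI := hn
  refine ⟨inferInstance, fun h => ht (eq_top_iff.2 fun x _ => ?_), fun K hK hle => ?_⟩
  · have : α.symm x ∈ M.comap α.toMonoidHom := h ▸ mem_top _
    simpa using this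
  · have hKn : (K.comap α.symm.toMonoidHom).Normal := hK.comap _
    rcases hmax _ hKn (fun x hx => hle (show α (α.symm x) ∈ M by simpa using hx)) with h | h
    · left
      ext x
      have := SetLike.ext_iff.1 h (α x)
      simpa using this
    · right
      refine eq_top_iff.2 fun x _ => ?_
      have : α x ∈ K.comap α.symm.toMonoidHom := h ▸ mem_top _
      simpa using this

/-- Two subgroups covering a maximal normal quotient have a commutator covering it. -/
theorem sup_eq_top_of_commutator {M : Subgroup N} (hM : MaxNormal M) (hperf : commutator N = ⊤)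
    {U A B C : Subgroup N} (hUM : U ⊔ M = ⊤) (hC : ∀ u ∈ U, ∀ c ∈ C, u * c * u⁻¹ ∈ C)
    (hA : A ⊔ M = ⊤) (hB : B ⊔ M = ⊤) (hAB : ⁅A, B⁆ ≤ C) : C ⊔ M = ⊤ := by
  obtain ⟨hn, ht, hmax⟩ := hM
  haveI := hn
  have hmap : ∀ X : Subgroup N, X ⊔ M = ⊤ → X.map (QuotientGroup.mk' M) = ⊤ := fun X hX => by
    refine Subgroup.comap_injective (QuotientGroup.mk'_surjective M) ?_
    rw [Subgroup.comap_map_eq, QuotientGroup.ker_mk', hX, Subgroup.comap_top]
  have h1 : (C ⊔ M).map (QuotientGroup.mk' M) = ⊤ := by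
    refine top_unique ?_
    calc (⊤ : Subgroup (N ⧸ M)) = (commutator N).map (QuotientGroup.mk' M) := by
          rw [hperf, Subgroup.map_top_of_surjective _ (QuotientGroup.mk'_surjective M)]
      _ = ⁅(⊤ : Subgroup N).map (QuotientGroup.mk' M), (⊤ : Subgroup N).map (QuotientGroup.mk' M)⁆ := by
          rw [commutator_def, Subgroup.map_commutator]
      _ = ⁅A, B⁆.map (QuotientGroup.mk' M) := by
          rw [Subgroup.map_commutator, hmap A hA, hmap B hB,
            Subgroup.map_top_of_surjective _ (QuotientGroup.mk'_surjective M)]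
      _ ≤ (C ⊔ M).map (QuotientGroup.mk' M) := Subgroup.map_mono (hAB.trans le_sup_left)
  have h2 := congrArg (Subgroup.comap (QuotientGroup.mk' M)) h1
  rwa [Subgroup.comap_map_eq, QuotientGroup.ker_mk', sup_assoc, sup_idem, Subgroup.comap_top] at h2

/-- `U` meets distinct coordinates independently. -/
theorem inf_sup_eq_top (hperf : commutator N = ⊤) (U : Subgroup N) (s : Finset (Subgroup N))
    (hs : ∀ M ∈ s, MaxNormal M ∧ U ⊔ M = ⊤) {M : Subgroup N} (hM : MaxNormal M) (hUM : U ⊔ M = ⊤)
    (hd : ∀ M' ∈ s, U ⊓ M' ≠ U ⊓ M) : (U ⊓ s.inf id) ⊔ M = ⊤ := by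
  classical
  induction s using Finset.induction_on with
  | empty => simpa using hUM
  | @insert M' s hMs ih =>
    have ih' := ih (fun X hX => hs X (Finset.mem_insert_of_mem hX))
      (fun X hX => hd X (Finset.mem_insert_of_mem hX))
    obtain ⟨hM', hUM'⟩ := hs M' (Finset.mem_insert_self _ _)
    haveI := hM'.1
    haveI := hM.1
    -- the kernel at `M'` covers the quotient by `M`
    have hcov : (U ⊓ M') ⊔ M = ⊤ := by
      have hnorm : ∀ u ∈ U, ∀ c ∈ U ⊓ M', u * c * u⁻¹ ∈ U ⊓ M' := fun u hu c hc =>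
        ⟨U.mul_mem (U.mul_mem hu hc.1) (U.inv_mem hu), hM'.1.conj_mem c hc.2 u⟩
      have hn : ((U ⊓ M') ⊔ M).Normal := by
        rw [← Subgroup.normalizer_eq_top_iff, eq_top_iff, ← hUM]
        refine sup_le (fun u hu => ?_) (le_sup_right.trans Subgroup.le_normalizer)
        refine Subgroup.mem_normalizer_iff.2 fun x => ?_
        have hle : ∀ g ∈ U, ((U ⊓ M') ⊔ M) ≤ ((U ⊓ M') ⊔ M).comap (MulAut.conj g).toMonoidHom :=
          fun g hg => sup_le (fun c hc => Subgroup.mem_sup_left (hnorm g hg c hc))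
            (fun c hc => Subgroup.mem_sup_right (hM.1.conj_mem c hc g))
        refine ⟨fun hx => hle u hu hx, fun hx => ?_⟩
        have := hle u⁻¹ (U.inv_mem hu) hx
        simpa [mul_assoc] using this
      rcases hM.2.2 _ hn le_sup_right with h | h
      · exfalso
        have hle : U ⊓ M' ≤ U ⊓ M := le_inf inf_le_left (le_sup_left.trans h.le)
        refine hd M' (Finset.mem_insert_self _ _) (le_antisymm hle ?_)
        -- the larger kernel cannot cover the quotient by `M'`
        have hn' : ((U ⊓ M) ⊔ M').Normal := by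
          rw [← Subgroup.normalizer_eq_top_iff, eq_top_iff, ← hUM']
          refine sup_le (fun u hu => ?_) (le_sup_right.trans Subgroup.le_normalizer)
          refine Subgroup.mem_normalizer_iff.2 fun x => ?_
          have hle : ∀ g ∈ U, ((U ⊓ M) ⊔ M') ≤ ((U ⊓ M) ⊔ M').comap (MulAut.conj g).toMonoidHom :=
            fun g hg => sup_le (fun c hc => Subgroup.mem_sup_left
                (show g * c * g⁻¹ ∈ U ⊓ M from
                  ⟨U.mul_mem (U.mul_mem hg hc.1) (U.inv_mem hg), hM.1.conj_mem c hc.2 g⟩))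
              (fun c hc => Subgroup.mem_sup_right (hM'.1.conj_mem c hc g))
          refine ⟨fun hx => hle u hu hx, fun hx => ?_⟩
          have := hle u⁻¹ (U.inv_mem hu) hx
          simpa [mul_assoc] using this
        rcases hM'.2.2 _ hn' le_sup_right with h' | h'
        · exact le_inf inf_le_left (le_sup_left.trans h'.le)
        · exfalso
          refine hM.2.1 (top_unique (hUM.ge.trans (sup_le (fun u hu => ?_) le_rfl)))
          have hmem : u ∈ (U ⊓ M) ⊔ M' := h' ▸ mem_top u
          obtain ⟨c, hc, m, hm, rfl⟩ := Subgroup.mem_sup_of_normal_right.1 hmem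
          have hm' : m ∈ U ⊓ M' := ⟨(U.mul_mem_cancel_left hc.1).1 hu, hm⟩
          exact M.mul_mem hc.2 (hle hm').2
      · exact h
    rw [Finset.inf_insert, id]
    have hAn : ∀ u ∈ U, ∀ c ∈ s.inf id, u * c * u⁻¹ ∈ s.inf id := by
      intro u _ c hc
      rw [Finset.inf_eq_iInf, Subgroup.mem_iInf] at hc ⊢
      intro X
      rw [Subgroup.mem_iInf] at *
      intro hX
      exact (hs X (Finset.mem_insert_of_mem hX)).1.1.conj_mem c (Subgroup.mem_iInf.1 (hc X) hX) u
    refine sup_eq_top_of_commutator hM hperf hUM ?_ ih' hcov ?_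
    · intro u hu c hc
      exact ⟨U.mul_mem (U.mul_mem hu hc.1) (U.inv_mem hu), hM'.1.conj_mem c hc.2.1 u, hAn u hu c hc.2.2⟩
    · refine Subgroup.commutator_le.2 fun a ha b hb => ⟨?_, ?_, ?_⟩
      · exact U.mul_mem (U.mul_mem (U.mul_mem ha.1 hb.1) (U.inv_mem ha.1)) (U.inv_mem hb.1)
      · exact M'.mul_mem (hM'.1.conj_mem b hb.2 a) (M'.inv_mem hb.2)
      · have h1 : b * a⁻¹ * b⁻¹ ∈ s.inf id := hAn b hb.1 _ ((s.inf id).inv_mem ha.2)
        rw [show ⁅a, b⁆ = a * (b * a⁻¹ * b⁻¹) by rw [commutatorElement_def]; group]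
        exact (s.inf id).mul_mem ha.2 h1

/-- Prescribed values at finitely many coordinates. -/
theorem exists_forall_mem (hperf : commutator N = ⊤) (g : Subgroup N → N) (s : Finset (Subgroup N))
    (hs : ∀ M ∈ s, MaxNormal M) : ∃ x : N, ∀ M ∈ s, (g M)⁻¹ * x ∈ M := by
  classical
  induction s using Finset.induction_on with
  | empty => exact ⟨1, by simp⟩
  | @insert M s hMs ih =>
    obtain ⟨x, hx⟩ := ih (fun X hX => hs X (Finset.mem_insert_of_mem hX))
    have hM := hs M (Finset.mem_insert_self _ _)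
    haveI := hM.1
    have h : ((⊤ : Subgroup N) ⊓ s.inf id) ⊔ M = ⊤ := inf_sup_eq_top hperf ⊤ s
      (fun X hX => ⟨hs X (Finset.mem_insert_of_mem hX), by simp⟩) hM (by simp)
      (fun X hX => by simpa using fun e : X = M => hMs (e ▸ hX))
    rw [top_inf_eq] at h
    obtain ⟨a, ha, m, hm, he⟩ := Subgroup.mem_sup_of_normal_right.1 (h.symm ▸ mem_top (x⁻¹ * g M))
    refine ⟨x * a, fun X hX => ?_⟩
    rcases Finset.mem_insert.1 hX with rfl | hX
    · have e : g X = x * (a * m) := by rw [he]; group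
      rw [e, show (x * (a * m))⁻¹ * (x * a) = m⁻¹ by group]
      exact X.inv_mem hm
    · rw [← mul_assoc]
      exact X.mul_mem (hx X hX) (Finset.inf_le (f := id) hX ha)

/-- The series length is at most the number of coordinates. -/
theorem ser_le_add_card {n : ℕ} (h : Ser (⊤ : Subgroup N) n) (s : Finset (Subgroup N))
    (hs : ∀ M ∈ s, MaxNormal M) : ∃ a, Ser (s.inf id) a ∧ n ≤ a + s.card := by
  classical
  induction s using Finset.induction_on with
  | empty => exact ⟨n, by simpa using h, by simp⟩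
  | @insert M s hMs ih =>
    obtain ⟨a, ha, hle⟩ := ih (fun X hX => hs X (Finset.mem_insert_of_mem hX))
    obtain ⟨hMn, hMt, hmax⟩ := hs M (Finset.mem_insert_self _ _)
    haveI := hMn
    obtain ⟨b, c, hb, hc, hbc⟩ := ha.split (QuotientGroup.mk' M)
    have hD : (s.inf id).Normal := by
      refine ⟨fun x hx g => ?_⟩
      rw [Finset.inf_eq_iInf, Subgroup.mem_iInf] at hx ⊢
      intro X
      rw [Subgroup.mem_iInf]
      intro hX
      exact (hs X (Finset.mem_insert_of_mem hX)).1.conj_mem x (Subgroup.mem_iInf.1 (hx X) hX) g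
    have hsimp : ∀ K : Subgroup (N ⧸ M), K.Normal → K = ⊥ ∨ K = ⊤ := fun K hK => by
      have hle : M ≤ K.comap (QuotientGroup.mk' M) := by
        conv_lhs => rw [← QuotientGroup.ker_mk' M]
        exact Subgroup.ker_le_comap _ _
      rcases hmax _ (hK.comap _) hle with h | h
      · left
        rw [← Subgroup.map_comap_eq_self_of_surjective (QuotientGroup.mk'_surjective M) K, h,
          Subgroup.map_eq_bot_iff, QuotientGroup.ker_mk']
      · right
        rw [← Subgroup.map_comap_eq_self_of_surjective (QuotientGroup.mk'_surjective M) K, h,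
          Subgroup.map_top_of_surjective _ (QuotientGroup.mk'_surjective M)]
    have hc1 : c ≤ 1 := by
      rcases hsimp _ (hD.map _ (QuotientGroup.mk'_surjective M)) with e | e
      · rw [(hc.bot_len e)]; omega
      · rw [e] at hc; exact hc.le_one hsimp
    refine ⟨b, ?_, by rw [Finset.card_insert_of_notMem hMs]; omega⟩
    have := hb.map_inj (QuotientGroup.mk' M).ker.subtype_injective
    rw [Subgroup.subgroupOf_map_subtype, QuotientGroup.ker_mk'] at this
    simpa [Finset.inf_insert, inf_comm] using this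

/-- A set of coordinates with distinct kernels in `U` gives a long series of `U`. -/
theorem exists_ser_of_kernels (hperf : commutator N = ⊤) (U : Subgroup N) (R : Finset (Subgroup N))
    (hR : ∀ M ∈ R, MaxNormal M ∧ U ⊔ M = ⊤)
    (hinj : ∀ M ∈ R, ∀ M' ∈ R, U ⊓ M = U ⊓ M' → M = M') : ∃ e, R.card ≤ e ∧ Ser U e := by
  classical
  suffices h : ∀ t s : Finset (Subgroup N), t ⊆ R → s ⊆ R → Disjoint t s →
      ∃ e, t.card ≤ e ∧ Ser (U ⊓ s.inf id) e by
    obtain ⟨e, he, hs⟩ := h R ∅ le_rfl (Finset.empty_subset _) (Finset.disjoint_empty_right _)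
    exact ⟨e, he, by simpa using hs⟩
  intro t
  induction t using Finset.induction_on with
  | empty =>
      intro s _ _ _
      obtain ⟨n, hn⟩ := exists_ser (U ⊓ s.inf id)
      exact ⟨n, by simp, hn⟩
  | @insert M t hMt ih =>
    intro s ht hs hd
    have hMR : M ∈ R := ht (Finset.mem_insert_self _ _)
    have hMs : M ∉ s := Finset.disjoint_left.1 hd (Finset.mem_insert_self _ _)
    obtain ⟨e, he, hser⟩ := ih (insert M s) ((Finset.subset_insert _ _).trans ht)
      (Finset.insert_subset hMR hs) (Finset.disjoint_left.2 fun X hXt hXs => by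
        rcases Finset.mem_insert.1 hXs with rfl | hXs
        · exact hMt hXt
        · exact Finset.disjoint_left.1 hd (Finset.mem_insert_of_mem hXt) hXs)
    refine ⟨e + 1, by rw [Finset.card_insert_of_notMem hMt]; omega, hser.step ?_ ?_⟩
    · rw [Finset.inf_insert, id]
      refine lt_of_le_of_ne (inf_le_inf_left _ inf_le_right) fun h => ?_
      have hle : U ⊓ s.inf id ≤ M := h.ge.trans (inf_le_right.trans inf_le_left)
      have := inf_sup_eq_top hperf U s (fun X hX => hR X (hs hX)) (hR M hMR).1 (hR M hMR).2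
        (fun X hX hX' => hMs (hinj X (hs hX) M hMR hX' ▸ hX))
      rw [sup_eq_right.2 hle] at this
      exact (hR M hMR).1.2.1 this
    · refine subgroupOf_normal_of fun a ha b hb => ?_
      rw [Finset.inf_insert, id] at ha ⊢
      haveI := (hR M hMR).1.1
      exact ⟨U.mul_mem (U.mul_mem hb.1 ha.1) (U.inv_mem hb.1), (hR M hMR).1.1.conj_mem a ha.2.1 b,
        (s.inf id).mul_mem ((s.inf id).mul_mem hb.2 ha.2.2) ((s.inf id).inv_mem hb.2)⟩

end Cfsg.Lib.CompLength
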