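import Cfsg.Agent.Lib.CompLength.Agree

/-!
# Composition length of permutation groups: `3 l ≤ 4 (n - r)`
-/

set_option autoImplicit false

namespace Cfsg.Lib.CompLength

open Subgroup
open scoped commutatorElement

universe v

variable {Ω : Type v}

/-- The bound for a permutation group. -/
def Bound (G : Subgroup (Equiv.Perm Ω)) : Prop :=
  ∀ l, Ser (⊤ : Subgroup G) l → 3 * l + 4 * Nat.card (MulAction.orbitRel.Quotient G Ω) ≤ 4 * Nat.card Ω

/-- The bound in all smaller degrees. -/
def Below (n : ℕ) : Prop :=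
  ∀ (Ω' : Type v) [Finite Ω'], Nat.card Ω' < n → ∀ G : Subgroup (Equiv.Perm Ω'), Bound G

theorem card_range_le_orbits {G : Type*} [Group G] {α : Type*} [MulAction G α] [Finite α] {β : Type*}
    (F : α → β) (hF : ∀ (g : G) x, F (g • x) = F x) :
    Nat.card (Set.range F) ≤ Nat.card (MulAction.orbitRel.Quotient G α) := by
  let q : MulAction.orbitRel.Quotient G α → Set.range F := Quotient.lift (fun x => ⟨F x, x, rfl⟩) (by
    rintro a b ⟨g, rfl⟩
    exact Subtype.ext (hF g b))
  exact Nat.card_le_card_of_surjective q (fun ⟨_, x, hx⟩ => ⟨Quotient.mk'' x, Subtype.ext hx⟩)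

theorem Ser.via_range {n : ℕ} (ih : Below.{v} n) {Ω' : Type v} [Finite Ω'] (hn : Nat.card Ω' < n) {K : Type*}
    [Group K] (f : K →* Equiv.Perm Ω') {β : Type*} (F : Ω' → β) (hF : ∀ k x, F (f k x) = F x) {c : ℕ}
    (hc : Ser f.range c) : 3 * c + 4 * Nat.card (Set.range F) ≤ 4 * Nat.card Ω' := by
  have h := hc.subgroupOf f.range le_rfl
  rw [Subgroup.subgroupOf_self] at h
  have h1 := ih Ω' hn f.range c h
  have h2 := card_range_le_orbits (G := f.range) F (by
    rintro ⟨_, k, rfl⟩ x
    exact hF k x)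
  omega

theorem Ser.via_inj {n : ℕ} (ih : Below.{v} n) {Ω' : Type v} [Finite Ω'] (hn : Nat.card Ω' < n) {K : Type*}
    [Group K] (f : K →* Equiv.Perm Ω') (hf : Function.Injective f) {β : Type*} (F : Ω' → β)
    (hF : ∀ k x, F (f k x) = F x) {c : ℕ}
    (hc : Ser (⊤ : Subgroup K) c) : 3 * c + 4 * Nat.card (Set.range F) ≤ 4 * Nat.card Ω' := by
  have h := hc.map_inj hf
  rw [← MonoidHom.range_eq_map] at h
  exact h.via_range ih hn f F hF

/-- The action on an invariant set. -/
def permOn {G : Type*} [Group G] {α : Type*} [MulAction G α] (s : Set α)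
    (hs : ∀ (g : G), ∀ x ∈ s, g • x ∈ s) : G →* Equiv.Perm s where
  toFun g := (MulAction.toPerm g).subtypePerm fun x => ⟨fun hx => by simpa using hs g⁻¹ _ hx, hs g x⟩
  map_one' := Equiv.ext fun x => Subtype.ext (one_smul G x.1)
  map_mul' g h := Equiv.ext fun x => Subtype.ext (mul_smul g h x.1)

theorem permOn_apply {G : Type*} [Group G] {α : Type*} [MulAction G α] (s : Set α)
    (hs : ∀ (g : G), ∀ x ∈ s, g • x ∈ s) (g : G) (x : s) : ((permOn s hs g x : s) : α) = g • (x : α) := rfl

theorem ser_top_map {G H : Type*} [Group G] [Group H] (f : G →* H) {l : ℕ} (h : Ser (⊤ : Subgroup G) l) :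
    ∃ a c, Ser (⊤ : Subgroup f.ker) a ∧ Ser f.range c ∧ l ≤ a + c := by
  obtain ⟨a, c, ha, hc, hle⟩ := h.split f
  rw [Subgroup.top_subgroupOf] at ha
  rw [← MonoidHom.range_eq_map] at hc
  exact ⟨a, c, ha, hc, hle⟩

theorem bound_intransitive [Finite Ω] (ih : Below.{v} (Nat.card Ω)) (G : Subgroup (Equiv.Perm Ω))
    (h2 : 2 ≤ Nat.card (MulAction.orbitRel.Quotient G Ω)) : Bound G := by
  classical
  intro l hl
  obtain ⟨qa, qb, hab⟩ := Finite.one_lt_card_iff_nontrivial.1 (show 1 < Nat.card _ from h2) |>.exists_pair_ne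
  obtain ⟨a, rfl⟩ := Quotient.mk''_surjective qa
  obtain ⟨b, rfl⟩ := Quotient.mk''_surjective qb
  set O := MulAction.orbit G a with hO
  have hb : b ∉ O := fun h => hab (Quotient.sound' h).symm
  have hOs : ∀ (g : G), ∀ x ∈ O, g • x ∈ O := fun g x hx =>
    (MulAction.mem_orbit_of_mem_orbit g hx : g • x ∈ MulAction.orbit G a)
  have hOc : ∀ (g : G), ∀ x ∈ Oᶜ, g • x ∈ Oᶜ := fun g x hx hgx => hx (by simpa using hOs g⁻¹ _ hgx)
  have hcard : Nat.card O + Nat.card (Oᶜ : Set Ω) = Nat.card Ω := by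
    rw [Nat.card_coe_set_eq, Nat.card_coe_set_eq, Set.ncard_add_ncard_compl]
  have hO0 : 0 < Nat.card O := @Nat.card_pos _ ⟨⟨a, MulAction.mem_orbit_self a⟩⟩ _
  have hC0 : 0 < Nat.card (Oᶜ : Set Ω) := @Nat.card_pos _ ⟨⟨b, hb⟩⟩ _
  set φ := permOn O hOs with hφ
  obtain ⟨x, c, hx, hc, hle⟩ := ser_top_map φ hl
  have h1 := hc.via_range ih (by omega) φ (fun _ => ()) (fun _ _ => rfl)
  have hu : 1 ≤ Nat.card (Set.range fun _ : O => ()) :=
    Nat.one_le_iff_ne_zero.2 (@Nat.card_pos _ ⟨⟨(), ⟨a, MulAction.mem_orbit_self a⟩, rfl⟩⟩ _).ne'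
  let ψ := (permOn (Oᶜ) hOc).comp φ.ker.subtype
  have hψ : Function.Injective ψ := by
    rw [injective_iff_map_eq_one]
    intro g hg
    refine Subtype.ext (Subtype.ext (Equiv.ext fun y => ?_))
    by_cases hy : y ∈ O
    · exact congrArg Subtype.val (Equiv.ext_iff.1 (MonoidHom.mem_ker.1 g.2) ⟨y, hy⟩)
    · exact congrArg Subtype.val (Equiv.ext_iff.1 hg ⟨y, hy⟩)
  let F : (Oᶜ : Set Ω) → MulAction.orbitRel.Quotient G Ω := fun y => Quotient.mk'' y.1
  have h2' := hx.via_inj ih (by omega) ψ hψ F (fun k y => Quotient.sound' ⟨k.1, rfl⟩)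
  have hr : Nat.card (MulAction.orbitRel.Quotient G Ω) ≤ Nat.card (Set.range F) + 1 := by
    have hsub : (Set.univ : Set (MulAction.orbitRel.Quotient G Ω)) ⊆
        insert (Quotient.mk'' a) (Set.range F) := fun q _ => by
      obtain ⟨y, rfl⟩ := Quotient.mk''_surjective q
      by_cases hy : y ∈ O
      · exact Or.inl (Quotient.sound' hy)
      · exact Or.inr ⟨⟨y, hy⟩, rfl⟩
    have := Set.ncard_le_ncard hsub (Set.toFinite _)
    rw [Set.ncard_univ] at this
    exact this.trans ((Set.ncard_insert_le _ _).trans (le_of_eq (by rw [Nat.card_coe_set_eq])))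
  omega

theorem bound_imprimitive [Finite Ω] (ih : Below.{v} (Nat.card Ω)) (G : Subgroup (Equiv.Perm Ω))
    [MulAction.IsPretransitive G Ω] (a : Ω) (K : Subgroup G) (hK1 : MulAction.stabilizer G a < K)
    (hK2 : K ≠ ⊤) : ∀ l, Ser (⊤ : Subgroup G) l → 3 * l + 4 ≤ 4 * Nat.card Ω := by
  classical
  intro l hl
  choose t ht using fun x => MulAction.exists_smul_eq G a x
  let p : Ω → G ⧸ K := fun x => QuotientGroup.mk (t x)
  have hp : ∀ (g : G) x, p (g • x) = g • p x := fun g x => by
    show QuotientGroup.mk (t (g • x)) = g • (QuotientGroup.mk (t x) : G ⧸ K)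
    rw [MulAction.Quotient.smul_mk, QuotientGroup.eq]
    refine hK1.le (MulAction.mem_stabilizer_iff.2 ?_)
    rw [smul_eq_mul, mul_smul, mul_smul, ht, inv_smul_eq_iff, ht]
  have hps : Function.Surjective p := fun q => by
    obtain ⟨g, rfl⟩ := QuotientGroup.mk_surjective q
    refine ⟨g • a, ?_⟩
    rw [hp]
    show g • (QuotientGroup.mk (t a) : G ⧸ K) = _
    rw [MulAction.Quotient.smul_mk, QuotientGroup.eq]
    have : t a ∈ K := hK1.le (MulAction.mem_stabilizer_iff.2 (ht a))
    simpa [mul_assoc] using K.inv_mem this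
  have hk1 : 1 < K.index := Subgroup.one_lt_index_of_ne_top hK2
  have hkn : K.index < Nat.card Ω := by
    rw [← MulAction.index_stabilizer_of_transitive G a]
    exact Subgroup.index_strictAnti hK1
  set φ := MulAction.toPermHom G (G ⧸ K) with hφ
  obtain ⟨x, c, hx, hc, hle⟩ := ser_top_map φ hl
  have h1 := hc.via_range ih (by rw [← Subgroup.index_eq_card]; omega) φ (fun _ => ()) (fun _ _ => rfl)
  have hu : 1 ≤ Nat.card (Set.range fun _ : G ⧸ K => ()) :=
    Nat.one_le_iff_ne_zero.2 (@Nat.card_pos _ ⟨⟨(), QuotientGroup.mk 1, rfl⟩⟩ _).ne'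
  -- the kernel fixes every fibre
  set C := φ.ker.map G.subtype with hC
  have hfib : ∀ (g : C) y, p (g • y) = p y := by
    rintro ⟨_, g, hg, rfl⟩ y
    show p (g • y) = p y
    rw [hp]
    exact Equiv.ext_iff.1 (MonoidHom.mem_ker.1 hg) (p y)
  have hrC : K.index ≤ Nat.card (MulAction.orbitRel.Quotient C Ω) := by
    have := card_range_le_orbits (G := C) p hfib
    rwa [hps.range_eq, Nat.card_univ, ← Subgroup.index_eq_card] at this
  have hxC : Ser (⊤ : Subgroup C) x := by
    have h := ((hx.map_inj φ.ker.subtype_injective).map_inj G.subtype_injective)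
    rw [← MonoidHom.range_eq_map, Subgroup.range_subtype] at h
    have h' := h.subgroupOf C le_rfl
    rwa [Subgroup.subgroupOf_self] at h'
  have h2 := bound_intransitive ih C (by omega) x hxC
  rw [← Subgroup.index_eq_card] at h1
  omega

theorem cardFactors_small {m : ℕ} (hd : m ∣ 5040) (hle : m ≤ 512) :
    ArithmeticFunction.cardFactors m ≤ 6 := by
  obtain ⟨m₁, m₂, h1, h2, rfl⟩ := Nat.dvd_mul.1 (show m ∣ 16 * 315 by simpa using hd)
  have hm1 : m₁ ≠ 0 := fun h => by simp [h] at h1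
  have hm2 : m₂ ≠ 0 := fun h => by simp [h] at h2
  rw [ArithmeticFunction.cardFactors_mul hm1 hm2]
  obtain ⟨i, hi, rfl⟩ := (Nat.dvd_prime_pow Nat.prime_two).1 (show m₁ ∣ 2 ^ 4 by simpa using h1)
  obtain ⟨m₃, m₄, h3, h4, rfl⟩ := Nat.dvd_mul.1 (show m₂ ∣ 9 * 35 by simpa using h2)
  obtain ⟨j, hj, rfl⟩ := (Nat.dvd_prime_pow Nat.prime_three).1 (show m₃ ∣ 3 ^ 2 by simpa using h3)
  obtain ⟨m₅, m₆, h5, h6, rfl⟩ := Nat.dvd_mul.1 (show m₄ ∣ 5 * 7 by simpa using h4)
  have hpr : ∀ {q x : ℕ}, q.Prime → x ∣ q → ArithmeticFunction.cardFactors x ≤ 1 := fun {q x} hq hx => by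
    rcases (Nat.dvd_prime hq).1 hx with rfl | rfl
    · simp
    · rw [ArithmeticFunction.cardFactors_apply_prime hq]
  obtain ⟨h34a, h34b⟩ := mul_ne_zero_iff.1 hm2
  obtain ⟨h56a, h56b⟩ := mul_ne_zero_iff.1 h34b
  rw [ArithmeticFunction.cardFactors_mul h34a h34b, ArithmeticFunction.cardFactors_mul h56a h56b,
    ArithmeticFunction.cardFactors_apply_prime_pow Nat.prime_two,
    ArithmeticFunction.cardFactors_apply_prime_pow Nat.prime_three]
  have h5' := hpr (show Nat.Prime 5 by norm_num) h5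
  have h6' := hpr (show Nat.Prime 7 by norm_num) h6
  by_contra hgt
  -- then all the exponents are large, so the number is too large
  have hi' : 4 * 2 ≤ 2 ^ i * 2 := by
    have : 2 ≤ i := by omega
    have := Nat.pow_le_pow_right (show 0 < 2 by norm_num) this
    omega
  have key : i ≤ 4 ∧ j ≤ 2 := ⟨hi, hj⟩
  have h5v := (Nat.dvd_prime (show Nat.Prime 5 by norm_num)).1 h5
  have h6v := (Nat.dvd_prime (show Nat.Prime 7 by norm_num)).1 h6
  rcases h5v with rfl | rfl <;> rcases h6v with rfl | rfl <;>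
    (try simp only [ArithmeticFunction.cardFactors_one] at hgt) <;>
    interval_cases i <;> interval_cases j <;> omega

theorem ineq_two : ∀ d : ℕ, 4 ≤ d → 3 * d + 3 * (d * d) ≤ 4 * (2 ^ d - 1) := by
  intro d hd
  induction d, hd using Nat.le_induction with
  | base => norm_num
  | succ d hd ih =>
    have : 16 ≤ 2 ^ d := le_trans (by norm_num) (Nat.pow_le_pow_right two_pos hd)
    rw [pow_succ]
    nlinarith [Nat.sub_add_cancel (show 1 ≤ 2 ^ d by omega), Nat.sub_add_cancel (show 1 ≤ 2 ^ d * 2 by omega)]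

theorem ineq_odd (q : ℕ) (hq : 2 ≤ q) : ∀ d : ℕ, 2 ≤ d → 3 * d + 3 * (d * d) * q + 4 ≤ 4 * (q + 1) ^ d := by
  intro d hd
  induction d, hd using Nat.le_induction with
  | base => nlinarith
  | succ d hd ih =>
    rw [pow_succ]
    have h1 : 3 * (3 * d + 3 * (d * d) * q + 4) ≤ 4 * (q + 1) ^ d * (q + 1) := by
      calc 3 * (3 * d + 3 * (d * d) * q + 4) ≤ (q + 1) * (4 * (q + 1) ^ d) :=
            Nat.mul_le_mul (by omega) ih
        _ = _ := by ring
    nlinarith [Nat.mul_le_mul (show 2 ≤ d by omega) (le_refl (d * q))]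

/-- A generating set of at most `d` elements of a group of order `p ^ d`. -/
theorem exists_small_gen {G : Type*} [Group G] [Finite G] {p d : ℕ} [Fact p.Prime] {N : Subgroup G}
    (hN : Nat.card N = p ^ d) :
    ∃ L : Finset G, L.card ≤ d ∧ (L : Set G) ⊆ N ∧ N ≤ Subgroup.closure (L : Set G) := by
  classical
  have hp := (Fact.out : p.Prime)
  suffices h : ∀ k, ∃ L : Finset G, (L : Set G) ⊆ N ∧ L.card ≤ k ∧
      (Subgroup.closure (L : Set G) = N ∨ p ^ k ≤ Nat.card (Subgroup.closure (L : Set G))) by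
    obtain ⟨L, hLN, hL, h'⟩ := h d
    refine ⟨L, hL, hLN, ?_⟩
    rcases h' with h' | h'
    · exact h'.ge
    · exact (Subgroup.eq_of_le_of_card_ge ((Subgroup.closure_le N).2 hLN) (hN ▸ h')).ge
  intro k
  induction k with
  | zero => exact ⟨∅, by simp, le_rfl, Or.inr (by simpa using Nat.card_pos)⟩
  | succ k ih =>
    obtain ⟨L, hLN, hL, h⟩ := ih
    by_cases he : Subgroup.closure (L : Set G) = N
    · exact ⟨L, hLN, hL.trans (Nat.le_succ k), Or.inl he⟩
    have h' := h.resolve_left he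
    set C := Subgroup.closure (L : Set G) with hC
    have hCN : C ≤ N := (Subgroup.closure_le N).2 hLN
    obtain ⟨y, hyN, hyC⟩ := SetLike.exists_of_lt (lt_of_le_of_ne hCN he)
    refine ⟨insert y L, by rw [Finset.coe_insert]; exact Set.insert_subset hyN hLN,
      (Finset.card_insert_le _ _).trans (by omega), Or.inr ?_⟩
    set C' := Subgroup.closure ((insert y L : Finset G) : Set G) with hC'
    have hlt : C < C' := lt_of_le_of_ne (Subgroup.closure_mono (by simp)) fun e =>
      hyC (e ▸ Subgroup.subset_closure (by simp))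
    have hC'N : C' ≤ N := (Subgroup.closure_le N).2 (by rw [Finset.coe_insert]; exact Set.insert_subset hyN hLN)
    obtain ⟨j, -, hj⟩ := (Nat.dvd_prime_pow hp).1 (hN ▸ Subgroup.card_dvd_of_le hC'N)
    have hcl : Nat.card C < Nat.card C' := by
      refine lt_of_le_of_ne (Subgroup.card_le_of_le hlt.le) fun e => hlt.ne ?_
      exact Subgroup.eq_of_le_of_card_ge hlt.le e.ge
    rw [hj] at hcl ⊢
    refine Nat.pow_le_pow_right hp.pos (Nat.lt_iff_add_one_le.1 ?_)
    exact (Nat.pow_lt_pow_iff_right hp.one_lt).1 (lt_of_le_of_lt h' hcl)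

theorem bound_primitive [Finite Ω] (ih : Below.{v} (Nat.card Ω)) (G : Subgroup (Equiv.Perm Ω))
    [MulAction.IsPretransitive G Ω] (a : Ω) (hn : 2 ≤ Nat.card Ω)
    (hmax : ∀ K : Subgroup G, MulAction.stabilizer G a < K → K = ⊤) :
    ∀ l, Ser (⊤ : Subgroup G) l → 3 * l + 4 ≤ 4 * Nat.card Ω := by
  classical
  intro l hl
  haveI : Nontrivial Ω := Finite.one_lt_card_iff_nontrivial.1 (by omega)
  obtain ⟨b, hb⟩ := exists_ne a
  haveI : Nontrivial G := by
    obtain ⟨g, hg⟩ := MulAction.exists_smul_eq G a b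
    exact ⟨g, 1, fun e => hb (by rw [← hg, e, one_smul])⟩
  obtain ⟨N, ⟨hNn, hN0⟩, hNmin⟩ := Set.Finite.exists_minimal
    (s := {K : Subgroup G | K.Normal ∧ K ≠ ⊥}) (Set.toFinite _) ⟨⊤, inferInstance, top_ne_bot⟩
  haveI := hNn
  set H := MulAction.stabilizer G a with hH
  have hfix : ∀ g : G, (∀ x : Ω, g • x = x) → g = 1 := fun g hg => Subtype.ext (Equiv.ext hg)
  have hNH : N ⊔ H = ⊤ := hmax _ (lt_of_le_of_ne le_sup_right fun e => hN0 (eq_bot_iff.2 fun x hx => by
    have hxH : ∀ y ∈ N, y ∈ H := fun y hy => e.symm ▸ Subgroup.mem_sup_left hy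
    refine Subgroup.mem_bot.2 (hfix x fun y => ?_)
    obtain ⟨g, rfl⟩ := MulAction.exists_smul_eq G a y
    have := MulAction.mem_stabilizer_iff.1 (hxH _ (hNn.conj_mem x hx g⁻¹))
    rw [inv_inv, mul_smul, mul_smul, inv_smul_eq_iff] at this
    exact this))
  have htr : ∀ y : Ω, ∃ x : N, (x : G) • a = y := fun y => by
    obtain ⟨g, rfl⟩ := MulAction.exists_smul_eq G a y
    obtain ⟨x, hx, h, hh, rfl⟩ := Subgroup.mem_sup_of_normal_left.1 (hNH.symm ▸ Subgroup.mem_top g)
    exact ⟨⟨x, hx⟩, by rw [mul_smul, MulAction.mem_stabilizer_iff.1 hh]⟩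
  choose xp hxp using htr
  -- the split along `N`
  obtain ⟨x, c, hx, hc, hle⟩ := hl.split (QuotientGroup.mk' N)
  rw [Subgroup.top_subgroupOf, QuotientGroup.ker_mk'] at hx
  rw [Subgroup.map_top_of_surjective _ (QuotientGroup.mk'_surjective N)] at hc
  -- the action of `H` on the other points
  have hs : ∀ (h : H), ∀ y ∈ ({a}ᶜ : Set Ω), h • y ∈ ({a}ᶜ : Set Ω) := fun h y hy e => hy (by
    rw [Set.mem_singleton_iff] at e ⊢
    have h2 : (h : G) • y = (h : G) • a := e.trans (MulAction.mem_stabilizer_iff.1 h.2).symm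
    exact MulAction.injective _ h2)
  let f := permOn ({a}ᶜ : Set Ω) hs
  have hf : Function.Injective f := by
    rw [injective_iff_map_eq_one]
    intro g hg
    refine Subtype.ext (hfix g.1 fun y => ?_)
    by_cases hy : y = a
    · rw [hy]; exact MulAction.mem_stabilizer_iff.1 g.2
    · exact congrArg Subtype.val (Equiv.ext_iff.1 hg ⟨y, hy⟩)
  have hcard' : Nat.card ({a}ᶜ : Set Ω) + 1 = Nat.card Ω := by
    rw [Nat.card_coe_set_eq, ← Set.ncard_add_ncard_compl ({a} : Set Ω), Set.ncard_singleton, add_comm]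
  let ψ : H →* G ⧸ N := (QuotientGroup.mk' N).comp H.subtype
  have hψ : ψ.range = ⊤ := by
    refine eq_top_iff.2 fun z _ => ?_
    obtain ⟨g, rfl⟩ := QuotientGroup.mk_surjective z
    obtain ⟨y, hy, h, hh, rfl⟩ := Subgroup.mem_sup_of_normal_left.1 (hNH.symm ▸ Subgroup.mem_top g)
    refine ⟨⟨h, hh⟩, ?_⟩
    show (QuotientGroup.mk h : G ⧸ N) = QuotientGroup.mk (y * h)
    rw [QuotientGroup.mk_mul, (QuotientGroup.eq_one_iff y).2 hy, one_mul]
  have hker : ψ.ker = N.subgroupOf H := by
    ext h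
    simp [ψ, MonoidHom.mem_ker, Subgroup.mem_subgroupOf]
  have hHser : ∀ e, Ser (N.subgroupOf H) e → Ser (⊤ : Subgroup H) (e + c) := fun e he => by
    have := Ser.comap_range ψ (hker ▸ he) hc hψ.ge
    rwa [Subgroup.comap_top] at this
  by_cases hab : ∀ y ∈ N, ∀ z ∈ N, y * z = z * y
  swap
  · -- a nonabelian minimal normal subgroup
    have hperf : commutator N = ⊤ := by
      refine Subgroup.map_injective N.subtype_injective ?_
      rw [← MonoidHom.range_eq_map, Subgroup.range_subtype, Subgroup.map_subtype_commutator]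
      refine le_antisymm (Subgroup.commutator_le_self N) (hNmin ⟨inferInstance, fun h => hab fun y hy z hz => ?_⟩
        (Subgroup.commutator_le_self N))
      exact commutatorElement_eq_one_iff_commute.1
        (Subgroup.mem_bot.1 (h ▸ Subgroup.commutator_mem_commutator hy hz))
    haveI : Nontrivial N := (Subgroup.nontrivial_iff_ne_bot N).2 hN0
    obtain ⟨M₀, hM₀⟩ := exists_maxNormal (N := N)
    have hinf : (coordSet N).inf id = ⊥ := by
      set D := (coordSet N).inf id
      have hDn : (D.map N.subtype).Normal := ⟨by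
        rintro _ ⟨y, hy, rfl⟩ g
        refine ⟨MulAut.conjNormal g y, ?_, by simp⟩
        show MulAut.conjNormal g y ∈ (coordSet N).inf id
        rw [Finset.inf_eq_iInf, Subgroup.mem_iInf]
        intro M
        rw [Subgroup.mem_iInf]
        intro hM
        have h2 : D ≤ M.comap (MulAut.conjNormal g).toMonoidHom :=
          Finset.inf_le (f := id) (mem_coordSet.2 ((mem_coordSet.1 hM).comap (MulAut.conjNormal g)))
        exact h2 hy⟩
      by_contra hne
      have h1 : N ≤ D.map N.subtype := hNmin ⟨hDn, fun h => hne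
        ((Subgroup.map_eq_bot_iff_of_injective D N.subtype_injective).1 h)⟩ (Subgroup.map_subtype_le D)
      refine hM₀.2.1 (top_unique fun y _ => ?_)
      obtain ⟨w, hw, hwy⟩ := h1 y.2
      rw [← (Subtype.ext hwy : w = y)]
      exact Finset.inf_le (f := id) (mem_coordSet.2 hM₀) hw
    obtain ⟨x', hx', hxle⟩ := ser_le_add_card hx (coordSet N) (fun M hM => mem_coordSet.1 hM)
    have hx0 := hx'.bot_len hinf
    set U : Subgroup N := H.subgroupOf N with hU
    obtain ⟨e, V, he, hV, hineq⟩ := exists_values hperf U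
    have he' : Ser (N.subgroupOf H) e := by
      have h := he.map_inj N.subtype_injective
      rw [hU, Subgroup.subgroupOf_map_subtype] at h
      have h' := h.subgroupOf H inf_le_left
      rwa [Subgroup.inf_subgroupOf_left] at h'
    let F : ({a}ᶜ : Set Ω) → ℕ := fun y => agreeNum U (xp y.1)
    have hag : ∀ (y : Ω) (z : N), (z : G) • a = y → agreeNum U (xp y) = agreeNum U z := fun y z hz => by
      have hmem : (xp y)⁻¹ * z ∈ U := by
        rw [hU, Subgroup.mem_subgroupOf, MulAction.mem_stabilizer_iff]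
        push_cast
        rw [mul_smul, inv_smul_eq_iff, hz, hxp]
      rw [← agreeNum_mul (xp y) hmem, mul_inv_cancel_left]
    have hF : ∀ k y, F (f k y) = F y := fun k y => by
      show agreeNum U (xp ((k : G) • y.1)) = agreeNum U (xp y.1)
      have e1 : ((MulAut.conjNormal (k : G) (xp y.1) : N) : G) • a = (k : G) • y.1 := by
        rw [MulAut.conjNormal_apply, mul_smul, mul_smul,
          MulAction.mem_stabilizer_iff.1 (inv_mem k.2 : (k : G)⁻¹ ∈ H), hxp]
      rw [hag _ _ e1, agreeNum_map]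
      intro u
      rw [hU, Subgroup.mem_subgroupOf, Subgroup.mem_subgroupOf, MulAut.conjNormal_apply,
        Subgroup.mul_mem_cancel_right _ (inv_mem k.2), Subgroup.mul_mem_cancel_left _ k.2]
    have h1 := (hHser e he').via_inj ih (by omega) f hf F hF
    have hVle : V.card ≤ Nat.card (Set.range F) := by
      rw [Nat.card_coe_set_eq, ← Set.ncard_coe_finset]
      refine Set.ncard_le_ncard (fun v hv => ?_) (Set.toFinite _)
      obtain ⟨z, hzU, rfl⟩ := hV v hv
      exact ⟨⟨(z : G) • a, fun h => hzU (by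
        rw [hU, Subgroup.mem_subgroupOf, MulAction.mem_stabilizer_iff]
        exact h)⟩, hag _ z rfl⟩
    omega
  -- an abelian minimal normal subgroup
  haveI : Nontrivial N := (Subgroup.nontrivial_iff_ne_bot N).2 hN0
  obtain ⟨p, hp, hpd⟩ := Nat.exists_prime_and_dvd (Finite.one_lt_card (α := N)).ne'
  haveI := Fact.mk hp
  have hpow : ∀ y ∈ N, y ^ p = 1 := by
    let E : Subgroup G :=
      { carrier := {g | g ∈ N ∧ g ^ p = 1}
        one_mem' := ⟨N.one_mem, one_pow p⟩
        mul_mem' := fun {g h} hg hh => ⟨N.mul_mem hg.1 hh.1, by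
          rw [(show Commute g h from hab g hg.1 h hh.1).mul_pow, hg.2, hh.2, one_mul]⟩
        inv_mem' := fun {g} hg => ⟨N.inv_mem hg.1, by rw [inv_pow, hg.2, inv_one]⟩ }
    obtain ⟨y, hy⟩ := exists_prime_orderOf_dvd_card' (G := N) p hpd
    have hEN : N ≤ E := hNmin ⟨⟨fun g hg z => ⟨hNn.conj_mem g hg.1 z, by rw [conj_pow, hg.2]; simp⟩⟩,
      fun h => by
        have h1 : (y : G) ∈ E := ⟨y.2, by rw [← hy, ← Subgroup.orderOf_coe, pow_orderOf_eq_one]⟩
        rw [h, Subgroup.mem_bot] at h1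
        rw [show y = 1 from Subtype.ext h1, orderOf_one] at hy
        exact hp.one_lt.ne hy⟩ (fun g hg => hg.1)
    exact fun y hy => (hEN hy).2
  obtain ⟨d, hd⟩ := (IsPGroup.iff_card (p := p) (G := N)).1
    (fun y => ⟨1, Subtype.ext (by rw [Subgroup.coe_pow, pow_one, hpow y y.2, Subgroup.coe_one])⟩)
  have hreg : ∀ y ∈ N, y • a = a → y = 1 := fun y hy h => hfix y fun z => by
    rw [← hxp z, ← mul_smul, hab y hy _ (xp z).2, mul_smul, h]
  have hnN : Nat.card Ω = p ^ d := by
    rw [← hd]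
    refine (Nat.card_eq_of_bijective (fun y : N => (y : G) • a) ⟨fun y z h => ?_, fun w => ⟨xp w, hxp w⟩⟩).symm
    have h' := hreg _ (N.mul_mem (N.inv_mem y.2) z.2) (by rw [mul_smul, inv_smul_eq_iff]; exact h.symm)
    exact Subtype.ext (inv_mul_eq_one.1 h')
  have hxd : x ≤ d := by
    have := hx.card_bound.1
    rw [Subgroup.card_top, hd, ArithmeticFunction.cardFactors_apply_prime_pow hp] at this
    exact this
  have hbot : N.subgroupOf H = ⊥ := eq_bot_iff.2 fun h hh => Subgroup.mem_bot.2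
    (Subtype.ext (hreg h.1 (Subgroup.mem_subgroupOf.1 hh) (MulAction.mem_stabilizer_iff.1 h.2)))
  have hcH := hHser 0 (hbot ▸ Ser.bot)
  rw [Nat.zero_add] at hcH
  have h1 := hcH.via_inj ih (by omega) f hf (fun _ => ()) (fun _ _ => rfl)
  have hu : 1 ≤ Nat.card (Set.range fun _ : ({a}ᶜ : Set Ω) => ()) :=
    Nat.one_le_iff_ne_zero.2 (@Nat.card_pos _ ⟨⟨(), ⟨b, hb⟩, rfl⟩⟩ _).ne'
  obtain ⟨hc1, hc2⟩ := hcH.card_bound
  rw [Subgroup.card_top] at hc1 hc2
  -- a small base
  obtain ⟨L, hL, hLsub, hNL⟩ := exists_small_gen hd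
  have hHle : Nat.card H ≤ (p ^ d) ^ d := by
    have hinj : Function.Injective (fun (h : H) (y : L) => (h : G) • ((y : G) • a)) := by
      intro h k hhk
      have hg : ∀ y ∈ L, ((h : G)⁻¹ * k) • (y • a) = y • a := fun y hy => by
        have := congrFun hhk ⟨y, hy⟩
        rw [mul_smul, inv_smul_eq_iff]
        exact this.symm
      set g := (h : G)⁻¹ * k with hgdef
      have hga : g • a = a := MulAction.mem_stabilizer_iff.1 (H.mul_mem (H.inv_mem h.2) k.2)
      have hga' : g⁻¹ • a = a := by rw [inv_smul_eq_iff, hga]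
      have hcomm : N ≤ Subgroup.centralizer {g} := by
        have hLN : ∀ y ∈ L, y ∈ N → y ∈ Subgroup.centralizer {g} := fun y hy hyN => by
          rw [Subgroup.mem_centralizer_singleton_iff]
          have he : (g * y * g⁻¹) • a = y • a := by rw [mul_smul, mul_smul, hga', hg y hy]
          have := hreg (y⁻¹ * (g * y * g⁻¹)) (N.mul_mem (N.inv_mem hyN) (hNn.conj_mem y hyN g))
            (by rw [mul_smul, he, inv_smul_smul])
          rw [inv_mul_eq_one, eq_mul_inv_iff_mul_eq] at this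
          exact this
        exact hNL.trans ((Subgroup.closure_le _).2 fun y hy => hLN y hy (hLsub hy))
      have hone : g = 1 := hfix g fun z => by
        obtain ⟨y, rfl⟩ : ∃ y : N, (y : G) • a = z := ⟨xp z, hxp z⟩
        rw [← mul_smul, ← Subgroup.mem_centralizer_singleton_iff.1 (hcomm y.2), mul_smul, hga]
      exact Subtype.ext (inv_mul_eq_one.1 hone)
    refine le_trans (Nat.card_le_card_of_injective _ hinj) ?_
    rw [Nat.card_fun, hnN, Nat.card_eq_fintype_card, Fintype.card_coe]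
    exact Nat.pow_le_pow_right (pow_pos hp.pos d) hL
  rw [← pow_mul] at hHle
  rcases Nat.lt_or_ge d 2 with hd2 | hd2
  · omega
  rcases hp.eq_two_or_odd with rfl | hodd
  · rcases Nat.lt_or_ge d 4 with hd4 | hd4
    · interval_cases d
      · omega
      · have hdvd : Nat.card H ∣ 5040 := by
          have h := Subgroup.card_dvd_of_injective f hf
          rw [Nat.card_perm, show Nat.card ({a}ᶜ : Set Ω) = 7 by norm_num at hnN; omega] at h
          simpa [Nat.factorial] using h
        have := cardFactors_small hdvd (by simpa using hHle)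
        omega
    · have hc3 : c ≤ d * d := (Nat.pow_le_pow_iff_right Nat.one_lt_two).1 (hc2.trans hHle)
      have := ineq_two d hd4
      omega
  · obtain ⟨q, rfl⟩ : ∃ q, p = q + 1 := ⟨p - 1, by have := hp.pos; omega⟩
    have hc3 : c ≤ d * d * q := by
      refine (Nat.pow_le_pow_iff_right Nat.one_lt_two).1 (hc2.trans (hHle.trans ?_))
      have := Nat.pow_le_pow_left (Nat.lt_two_pow_self (n := q)) (d * d)
      rw [← pow_mul] at this
      simpa [← pow_mul, Nat.succ_eq_add_one, Nat.mul_comm, Nat.mul_left_comm, Nat.mul_assoc] using this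
    have := ineq_odd q (by have := hp.two_le; omega) d hd2
    have : 3 * c ≤ 3 * (d * d * q) := Nat.mul_le_mul_left 3 hc3
    have e : 3 * (d * d) * q = 3 * (d * d * q) := by ring
    omega

theorem bound_all : ∀ (n : ℕ) (Ω' : Type v) [Finite Ω'], Nat.card Ω' = n →
    ∀ G : Subgroup (Equiv.Perm Ω'), Bound G := by
  intro n
  induction n using Nat.strong_induction_on with
  | _ n ih =>
    intro Ω' _ hn G
    have ih' : Below.{v} (Nat.card Ω') := fun Ω'' _ h => ih _ (hn ▸ h) Ω'' rfl
    classical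
    rcases Nat.lt_or_ge (Nat.card (MulAction.orbitRel.Quotient G Ω')) 2 with hr | hr
    swap
    · exact bound_intransitive ih' G hr
    intro l hl
    rcases Nat.lt_or_ge (Nat.card Ω') 2 with h1 | h2
    · haveI : Subsingleton Ω' := (Finite.card_le_one_iff_subsingleton).1 (by omega)
      have : (⊤ : Subgroup G) = ⊥ := eq_bot_iff.2 fun g _ => Subgroup.mem_bot.2
        (Subtype.ext (Equiv.ext fun x => Subsingleton.elim _ _))
      rw [hl.bot_len this]
      have hle : Nat.card (MulAction.orbitRel.Quotient G Ω') ≤ Nat.card Ω' :=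
        Nat.card_le_card_of_surjective Quotient.mk'' Quotient.mk''_surjective
      omega
    haveI : Nontrivial Ω' := Finite.one_lt_card_iff_nontrivial.1 h2
    obtain ⟨a⟩ : Nonempty Ω' := inferInstance
    haveI : Subsingleton (MulAction.orbitRel.Quotient G Ω') :=
      Finite.card_le_one_iff_subsingleton.1 (by omega)
    haveI : MulAction.IsPretransitive G Ω' := ⟨fun x y => by
      obtain ⟨g, hg⟩ := Quotient.exact' (Subsingleton.elim (Quotient.mk'' y : MulAction.orbitRel.Quotient G Ω') (Quotient.mk'' x))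
      exact ⟨g, hg⟩⟩
    by_cases hmax : ∀ K : Subgroup G, MulAction.stabilizer G a < K → K = ⊤
    · have := bound_primitive ih' G a h2 hmax l hl
      omega
    · push Not at hmax
      obtain ⟨K, hK1, hK2⟩ := hmax
      have := bound_imprimitive ih' G a K hK1 hK2 l hl
      omega

end Cfsg.Lib.CompLength
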