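import Mathlib

/-!
# Strict subnormal series and their lengths
-/

set_option autoImplicit false

namespace Cfsg.Lib.CompLength

open Subgroup

variable {G : Type*} [Group G]

/-- `Ser B n`: there is a strict series of length `n` from the trivial subgroup up to `B`, each term
normal in the next. -/
inductive Ser : Subgroup G → ℕ → Prop
  | bot : Ser ⊥ 0
  | step {A B : Subgroup G} {n : ℕ} : Ser A n → A < B → (A.subgroupOf B).Normal → Ser B (n + 1)

theorem subgroupOf_normal_of {A B : Subgroup G} (h : ∀ a ∈ A, ∀ b ∈ B, b * a * b⁻¹ ∈ A) :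
    (A.subgroupOf B).Normal :=
  ⟨fun a ha b => Subgroup.mem_subgroupOf.2 (h a.1 ha b.1 b.2)⟩

theorem conj_mem_of_subgroupOf {A B : Subgroup G} (hn : (A.subgroupOf B).Normal) (hle : A ≤ B) {a b : G}
    (ha : a ∈ A) (hb : b ∈ B) : b * a * b⁻¹ ∈ A :=
  Subgroup.mem_subgroupOf.1 (hn.conj_mem ⟨a, hle ha⟩ (Subgroup.mem_subgroupOf.2 ha) ⟨b, hb⟩)

theorem Ser.map_inj {H : Type*} [Group H] {f : G →* H} (hf : Function.Injective f) {B : Subgroup G} {n : ℕ}
    (h : Ser B n) : Ser (B.map f) n := by
  induction h with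
  | bot => rw [Subgroup.map_bot]; exact Ser.bot
  | @step A B n _ hlt hn ih =>
    refine ih.step ?_ (subgroupOf_normal_of ?_)
    · exact (Subgroup.map_le_map_iff_of_injective hf).2 hlt.le |>.lt_of_ne fun e =>
        hlt.ne (Subgroup.map_injective hf e)
    · rintro _ ⟨a, ha, rfl⟩ _ ⟨b, hb, rfl⟩
      exact ⟨b * a * b⁻¹, conj_mem_of_subgroupOf hn hlt.le ha hb, by simp⟩

theorem Ser.subgroupOf {A : Subgroup G} {n : ℕ} (h : Ser A n) :
    ∀ B : Subgroup G, A ≤ B → Ser (A.subgroupOf B) n := by
  induction h with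
  | bot => intro B _; rw [Subgroup.bot_subgroupOf]; exact Ser.bot
  | @step A C n _ hlt hn ih =>
    intro B hCB
    refine (ih B (hlt.le.trans hCB)).step ?_ (subgroupOf_normal_of ?_)
    · exact lt_of_le_of_ne (fun x hx => hlt.le hx) fun e => hlt.ne
        (le_antisymm hlt.le fun x hx => by
          have : (⟨x, hCB hx⟩ : B) ∈ A.subgroupOf B := e.symm ▸ Subgroup.mem_subgroupOf.2 hx
          exact this)
    · intro a ha b hb
      exact Subgroup.mem_subgroupOf.2
        (conj_mem_of_subgroupOf hn hlt.le (Subgroup.mem_subgroupOf.1 ha) (Subgroup.mem_subgroupOf.1 hb))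

theorem exists_ser (B : Subgroup G) : ∃ n, Ser B n := by
  by_cases h : B = ⊥
  · exact ⟨0, h ▸ Ser.bot⟩
  · exact ⟨1, Ser.bot.step (bot_lt_iff_ne_bot.2 h)
      (by rw [Subgroup.bot_subgroupOf]; infer_instance)⟩

theorem Ser.bot_len {B : Subgroup G} {n : ℕ} (h : Ser B n) (hB : B = ⊥) : n = 0 := by
  cases h with
  | bot => rfl
  | step _ hlt _ => exact absurd (hB ▸ hlt) not_lt_bot

/-- In a group whose normal subgroups are trivial, series have length at most one. -/
theorem Ser.le_one {n : ℕ} (h : Ser (⊤ : Subgroup G) n)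
    (hs : ∀ K : Subgroup G, K.Normal → K = ⊥ ∨ K = ⊤) : n ≤ 1 := by
  generalize hB : (⊤ : Subgroup G) = B at h
  cases h with
  | bot => exact Nat.zero_le 1
  | @step A B m hA hlt hn =>
    subst hB
    have hAn : A.Normal := ⟨fun a ha g => conj_mem_of_subgroupOf hn le_top ha (mem_top g)⟩
    rcases hs A hAn with rfl | rfl
    · rw [hA.bot_len rfl]
    · exact absurd hlt (lt_irrefl _)

/-- A series splits along a homomorphism. -/
theorem Ser.split {H : Type*} [Group H] (f : G →* H) {B : Subgroup G} {n : ℕ} (h : Ser B n) :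
    ∃ a c, Ser (B.subgroupOf f.ker) a ∧ Ser (B.map f) c ∧ n ≤ a + c := by
  induction h with
  | bot => exact ⟨0, 0, by rw [Subgroup.bot_subgroupOf]; exact Ser.bot,
      by rw [Subgroup.map_bot]; exact Ser.bot, le_rfl⟩
  | @step A B n _ hlt hn ih =>
    obtain ⟨a, c, ha, hc, hle⟩ := ih
    have hnk : ((A.subgroupOf f.ker).subgroupOf (B.subgroupOf f.ker)).Normal :=
      subgroupOf_normal_of fun x hx y hy => Subgroup.mem_subgroupOf.2
        (conj_mem_of_subgroupOf hn hlt.le (Subgroup.mem_subgroupOf.1 hx) (Subgroup.mem_subgroupOf.1 hy))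
    have hnm : ((A.map f).subgroupOf (B.map f)).Normal := subgroupOf_normal_of (by
      rintro _ ⟨x, hx, rfl⟩ _ ⟨y, hy, rfl⟩
      exact ⟨y * x * y⁻¹, conj_mem_of_subgroupOf hn hlt.le hx hy, by simp⟩)
    by_cases e1 : A.subgroupOf f.ker = B.subgroupOf f.ker
    · by_cases e2 : A.map f = B.map f
      · exfalso
        refine hlt.ne (le_antisymm hlt.le fun b hb => ?_)
        obtain ⟨x, hx, hxb⟩ : f b ∈ A.map f := e2 ▸ ⟨b, hb, rfl⟩
        have hk : x⁻¹ * b ∈ f.ker := by rw [MonoidHom.mem_ker]; simp [hxb]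
        have : (⟨x⁻¹ * b, hk⟩ : f.ker) ∈ A.subgroupOf f.ker :=
          e1.symm ▸ Subgroup.mem_subgroupOf.2 (B.mul_mem (B.inv_mem (hlt.le hx)) hb)
        simpa using A.mul_mem hx (Subgroup.mem_subgroupOf.1 this)
      · exact ⟨a, c + 1, e1 ▸ ha,
          hc.step (lt_of_le_of_ne (Subgroup.map_mono hlt.le) e2) hnm, by omega⟩
    · have hs : Ser (B.subgroupOf f.ker) (a + 1) :=
        ha.step (lt_of_le_of_ne (fun x hx => hlt.le hx) e1) hnk
      by_cases e2 : A.map f = B.map f
      · exact ⟨a + 1, c, hs, e2 ▸ hc, by omega⟩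
      · exact ⟨a + 1, c + 1, hs,
          hc.step (lt_of_le_of_ne (Subgroup.map_mono hlt.le) e2) hnm, by omega⟩

/-- Concatenation along a homomorphism. -/
theorem Ser.comap_range {H : Type*} [Group H] (f : G →* H) {a : ℕ} (ha : Ser f.ker a) {B : Subgroup H}
    {c : ℕ} (h : Ser B c) : B ≤ f.range → Ser (B.comap f) (a + c) := by
  induction h with
  | bot => intro _; rw [Nat.add_zero, MonoidHom.comap_bot]; exact ha
  | @step A B n _ hlt hn ih =>
    intro hB
    refine (ih (hlt.le.trans hB)).step ?_ (subgroupOf_normal_of fun x hx y hy => ?_)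
    · refine lt_of_le_of_ne (Subgroup.comap_mono hlt.le) fun e => hlt.ne (le_antisymm hlt.le fun b hb => ?_)
      obtain ⟨x, rfl⟩ := hB hb
      have : x ∈ A.comap f := e.symm ▸ (Subgroup.mem_comap.2 hb)
      exact this
    · rw [Subgroup.mem_comap] at *
      simpa using conj_mem_of_subgroupOf hn hlt.le hx hy

/-- The length of a series is bounded by the number of prime factors and the logarithm of the order. -/
theorem Ser.card_bound [Finite G] {B : Subgroup G} {n : ℕ} (h : Ser B n) :
    n ≤ ArithmeticFunction.cardFactors (Nat.card B) ∧ 2 ^ n ≤ Nat.card B := by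
  induction h with
  | bot => simp
  | @step A B n _ hlt _ ih =>
    have hm := Subgroup.card_mul_index (A.subgroupOf B)
    rw [Nat.card_congr (Subgroup.subgroupOfEquivOfLe hlt.le).toEquiv] at hm
    have h2 : 2 ≤ (A.subgroupOf B).index := by
      have h0 : (A.subgroupOf B).index ≠ 0 := Subgroup.index_ne_zero_of_finite
      have h1 : (A.subgroupOf B).index ≠ 1 := fun e => hlt.not_ge
        (Subgroup.subgroupOf_eq_top.1 (Subgroup.index_eq_one.1 e))
      omega
    rw [← hm]
    refine ⟨?_, ?_⟩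
    · rw [ArithmeticFunction.cardFactors_mul Nat.card_pos.ne' (by omega)]
      have : 1 ≤ ArithmeticFunction.cardFactors (A.subgroupOf B).index := by
        rw [ArithmeticFunction.cardFactors_apply, Nat.one_le_iff_ne_zero, ne_eq, List.length_eq_zero_iff,
          Nat.primeFactorsList_eq_nil]
        omega
      omega
    · rw [pow_succ]; exact Nat.mul_le_mul ih.2 h2

theorem ser_of_fin (l : ℕ) : ∀ (H : Fin (l + 1) → Subgroup G), H 0 = ⊥ →
    (∀ i : Fin l, H i.castSucc < H i.succ ∧ ((H i.castSucc).subgroupOf (H i.succ)).Normal) →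
    Ser (H (Fin.last l)) l := by
  induction l with
  | zero => intro H h0 _; rw [show Fin.last 0 = 0 from rfl, h0]; exact Ser.bot
  | succ l ih =>
    intro H h0 hc
    have h := ih (fun i => H i.castSucc) h0 (fun i => hc i.castSucc)
    have := hc (Fin.last l)
    rw [Fin.succ_last] at this
    exact h.step this.1 this.2

end Cfsg.Lib.CompLength
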